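import Groth.Agent.UniRad.NonConn
import Groth.Agent.SubGen.CommGeom
import Groth.Agent.AVEuler.Smooth
import Groth.Agent.Rigid.Smooth
import Groth.Agent.AutFinOrd.Setting

/-!
# The unipotent radical of the identity component over an arbitrary field

The closed subgroup generated by the conjugates of the radical is smooth, connected and normal; on
geometric fibres it lies in the geometric radical, hence it is contained in the radical.
-/

set_option autoImplicit false
set_option backward.isDefEq.respectTransparency false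
set_option linter.style.haveILetI false
set_option linter.unusedSectionVars false
set_option maxHeartbeats 1000000
set_option synthInstance.maxHeartbeats 200000

universe u

open CategoryTheory CategoryTheory.Limits MonoidalCategory CartesianMonoidalCategory MonObj GrpObj AlgebraicGeometry
open Groth.Agent.SubGen (src word letter ratEquiv ratEquiv_comp comp_word_cons comp_word_nil)

noncomputable section

namespace Groth.Agent.UniRadUp

variable {k : Type u} [Field k]

theorem isNormalHom_of_comp {A B C : Over (Spec (CommRingCat.of k))} [GrpObj A] [GrpObj B] [GrpObj C] (a : A ⟶ B)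
    (b : B ⟶ C) [IsMonHom b] [Mono b] (h : AlgGrp.IsNormalHom (a ≫ b)) : AlgGrp.IsNormalHom a := by
  intro X g n
  obtain ⟨n', hn'⟩ := h X (g ≫ b) n
  refine ⟨n', (cancel_mono b).1 ?_⟩
  rw [MonObj.mul_comp, MonObj.mul_comp, GrpObj.inv_comp, Category.assoc, Category.assoc, hn']

theorem exists_factor_open {G G₀ H : Over (Spec (CommRingCat.of k))} [GrpObj G] [GrpObj G₀] [GrpObj H]
    (j : G₀ ⟶ G) [IsMonHom j] [IsOpenImmersion j.left] [ConnectedSpace H.left] (f : H ⟶ G) [IsMonHom f] :
    ∃ f' : H ⟶ G₀, f' ≫ j = f ∧ IsMonHom f' := by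
  haveI : Mono j := Over.mono_of_mono_left j
  obtain ⟨t⟩ : Nonempty ↥(𝟙_ (Over (Spec (CommRingCat.of k)))).left := inferInstanceAs (Nonempty (PrimeSpectrum k))
  obtain ⟨f', hf'⟩ := RedOpen.exists_factor_conn j f ⟨η[H].left t, η[G₀].left t, by
    rw [← Scheme.Hom.comp_apply, ← Scheme.Hom.comp_apply, ← Over.comp_left, ← Over.comp_left,
      IsMonHom.one_hom f, IsMonHom.one_hom j]⟩
  exact ⟨f', hf', MTSplit.isMonHom_of_comp_mono f' j f hf'⟩

/-- The identity component of a smooth group over any field. -/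
theorem exists_open_connected (G : Over (Spec (CommRingCat.of k))) [GrpObj G] [Smooth G.hom] :
    ∃ (G₀ : Over (Spec (CommRingCat.of k))) (_ : GrpObj G₀) (j : G₀ ⟶ G) (_ : IsMonHom j),
      IsOpenImmersion j.left ∧ IsClosedImmersion j.left ∧ ConnectedSpace G₀.left := by
  obtain ⟨G₀, _, j, hj, hjc, hjf, hr, -, -, -⟩ := GrpComp.exists_identity_subgroup G
  haveI := hjc; haveI := hjf
  haveI : IsLocallyNoetherian G.left := LocallyOfFiniteType.isLocallyNoetherian G.hom
  haveI : LocallyOfFinitePresentation j.left := inferInstance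
  haveI : IsOpenImmersion j.left := IsOpenImmersion.of_flat_of_mono j.left
  refine ⟨G₀, inferInstance, j, hj, inferInstance, hjc, ?_⟩
  haveI : ConnectedSpace ↥(Set.range j.left) :=
    Subtype.connectedSpace (hr ▸ isConnected_connectedComponent)
  exact j.left.isClosedEmbedding.isEmbedding.toHomeomorph.symm.surjective.connectedSpace
    j.left.isClosedEmbedding.isEmbedding.toHomeomorph.symm.continuous

theorem whisker_left {A B T : Over (Spec (CommRingCat.of k))} (h : A ⟶ B) :
    (h ▷ T).left ≫ pullback.fst B.hom T.hom = pullback.fst A.hom T.hom ≫ h.left ∧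
      (h ▷ T).left ≫ pullback.snd B.hom T.hom = pullback.snd A.hom T.hom :=
  ⟨congrArg Over.Hom.left (whiskerRight_fst h T), congrArg Over.Hom.left (whiskerRight_snd h T)⟩

section Points

variable {L : Type u} [Field L] [IsAlgClosed L] (φ : Spec (CommRingCat.of L) ⟶ Spec (CommRingCat.of k))
  {G G₀ U : Over (Spec (CommRingCat.of k))} [GrpObj G] [GrpObj G₀] [GrpObj U] [IsAffine G.left] [Smooth G.hom]

/-- A family of conjugates lands, on geometric fibres, in a normal subgroup without subtori. -/
theorem exists_bound [ConnectedSpace G₀.left] (j : G₀ ⟶ G) [IsMonHom j] [IsOpenImmersion j.left]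
    (u : U ⟶ G₀) [IsMonHom u] [IsClosedImmersion u.left] [Smooth U.hom] (hUn : AlgGrp.IsNormalHom u)
    (hUc : ConnectedSpace (Red.bc φ U).left) (hUt : Red.HasNoSubtorus L (Red.bc φ U))
    (l : List Bool) :
    ∀ (W : Over (Spec (CommRingCat.of L))) [GrpObj W] (w : W ⟶ Red.bc φ G₀), Par.IsUnipotentRadical w →
      AlgGrp.IsNormalHom (w ≫ (Over.pullback φ).map j) →
      (∃ f : Red.bc φ U ⟶ W, f ≫ w = (Over.pullback φ).map u) →
      ∀ a : Over.mk φ ⟶ src (G ⊗ U) l, ∃ r : 𝟙_ (Over (Spec (CommRingCat.of L))) ⟶ W,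
        r ≫ (w ≫ (Over.pullback φ).map j) =
          ratEquiv φ G (a ≫ word (fst G U * (snd G U ≫ u ≫ j) * (fst G U)⁻¹) l) := by
  intro W _ w hw hn hU
  haveI := hw.1
  obtain ⟨f, hf⟩ := hU
  induction l with
  | nil =>
    intro a
    refine ⟨1, ?_⟩
    rw [MonObj.one_comp, comp_word_nil, map_one]
  | cons b l ih =>
    intro a
    obtain ⟨r, hr⟩ := ih (a ≫ snd (G ⊗ U) (src (G ⊗ U) l))
    have key : ∀ x : Over.mk φ ⟶ G ⊗ U, ∃ p : 𝟙_ (Over (Spec (CommRingCat.of L))) ⟶ W,
        p ≫ (w ≫ (Over.pullback φ).map j) =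
          ratEquiv φ G (x ≫ (fst G U * (snd G U ≫ u ≫ j) * (fst G U)⁻¹)) := by
      intro x
      obtain ⟨p, hp⟩ := hn _ (ratEquiv φ G (x ≫ fst G U)) (ratEquiv φ U (x ≫ snd G U) ≫ f)
      refine ⟨p, hp.symm.trans ?_⟩
      simp only [MonObj.comp_mul, GrpObj.comp_inv, map_mul, map_inv, Category.assoc]
      rw [reassoc_of% hf, ← Functor.map_comp, ← ratEquiv_comp]
      simp only [Category.assoc]
    obtain ⟨p, hp⟩ := key (a ≫ fst (G ⊗ U) (src (G ⊗ U) l))
    rw [comp_word_cons, map_mul, ← hr]
    cases b with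
    | true => exact ⟨p * r, by rw [MonObj.mul_comp, hp]; rfl⟩
    | false => exact ⟨p⁻¹ * r, by rw [MonObj.mul_comp, GrpObj.inv_comp, hp, ← map_inv, ← GrpObj.comp_inv]; rfl⟩

end Points

section Main

variable {G G₀ U : Over (Spec (CommRingCat.of k))} [GrpObj G] [GrpObj G₀] [GrpObj U] [IsAffine G.left] [Smooth G.hom]

theorem isUnipotentRadical_comp (j : G₀ ⟶ G) [IsMonHom j] [IsOpenImmersion j.left] [ConnectedSpace G₀.left]
    (u : U ⟶ G₀) (hu : Par.IsUnipotentRadical u) : Par.IsUnipotentRadical (u ≫ j) := by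
  obtain ⟨hum, huc, hun, hus, huq, hut, humax⟩ := id hu
  haveI := hum; haveI := huc; haveI := hus; haveI := huq
  haveI : IsClosedImmersion j.left := RedOpen.isClosedImmersion_openSub j
  haveI : Mono j := Over.mono_of_mono_left j
  haveI : Smooth G₀.hom := by rw [← Over.w j]; infer_instance
  haveI : IsClosedImmersion (u ≫ j).left := inferInstanceAs (IsClosedImmersion (u.left ≫ j.left))
  haveI : Mono u := GrpField.SchImg.mono_of_isClosedImmersion u
  let f : G ⊗ U ⟶ G := fst G U * (snd G U ≫ u ≫ j) * (fst G U)⁻¹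
  obtain ⟨K, _, i, w, hi, hic, hw, hd, ⟨f', hf'⟩, hmin⟩ := SubGen.exists_generated f
  haveI := hi; haveI := hic
  haveI : Mono i := GrpField.SchImg.mono_of_isClosedImmersion i
  haveI : LocallyOfFiniteType K.hom := by rw [← Over.w i]; infer_instance
  haveI : Smooth (G ⊗ U).hom := by
    show Smooth (pullback.fst G.hom U.hom ≫ G.hom)
    infer_instance
  haveI : GeometricallyReduced (G ⊗ U).hom := Rigid.geometricallyReduced_of_smooth _
  haveI hgr : ∀ l, GeometricallyReduced (src (G ⊗ U) l).hom := SubGen.geometricallyReduced_src _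
  haveI : GeometricallyReduced K.hom := SubGen.geometricallyReduced_of_dense hd
  haveI : Smooth K.hom := AVEuler.smooth_of_geometricallyReduced K
  -- connectedness
  obtain ⟨K₀, _, c, hcm, hco, hcc, hK₀⟩ := exists_open_connected K
  haveI := hcm; haveI := hco; haveI := hcc; haveI := hK₀
  haveI : Mono c := Over.mono_of_mono_left c
  have hrange : Set.range f'.left ⊆ Set.range c.left := by
    rintro _ ⟨z, rfl⟩
    let L := AlgebraicClosure ((G ⊗ U).left.residueField z)
    let ψ : Spec (CommRingCat.of L) ⟶ (G ⊗ U).left :=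
      Spec.map (CommRingCat.ofHom (algebraMap ((G ⊗ U).left.residueField z) L)) ≫ (G ⊗ U).left.fromSpecResidueField z
    let φ : Spec (CommRingCat.of L) ⟶ Spec (CommRingCat.of k) := ψ ≫ (G ⊗ U).hom
    let a : Over.mk φ ⟶ G ⊗ U := Over.homMk ψ rfl
    haveI : ConnectedSpace (U ⊗ Over.mk φ).left := by
      haveI : ConnectedSpace U.left := by
        let s : Spec (CommRingCat.of k) := IsLocalRing.closedPoint k
        haveI : ConnectedSpace ↥(pullback U.hom (Red.geomPt s)) := (hut s).1
        haveI : Surjective (Red.geomPt s) := inferInstance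
        exact (pullback.fst U.hom (Red.geomPt s)).surjective.connectedSpace
          (pullback.fst U.hom (Red.geomPt s)).continuous
      exact AutFinOrd.connectedSpace_bc φ U
    let h : U ⊗ Over.mk φ ⟶ G ⊗ U := lift (snd U (Over.mk φ) ≫ a ≫ fst G U) (fst U (Over.mk φ))
    let e : Over.mk φ ⟶ U ⊗ Over.mk φ := lift 1 (𝟙 _)
    have h1 : e ≫ h ≫ f' = 1 := by
      rw [← cancel_mono i, Category.assoc, Category.assoc, hf', MonObj.one_comp]
      simp only [f, e, h, MonObj.comp_mul, GrpObj.comp_inv, lift_fst, lift_snd, lift_fst_assoc, lift_snd_assoc,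
        Category.assoc, Category.id_comp, MonObj.one_comp, _root_.mul_one, mul_inv_cancel]
    obtain ⟨t⟩ : Nonempty (Spec (CommRingCat.of L)) := inferInstanceAs (Nonempty (PrimeSpectrum L))
    obtain ⟨q, hq⟩ := RedOpen.exists_factor_conn c (h ≫ f') ⟨e.left t, (1 : Over.mk φ ⟶ K₀).left t, by
      rw [← Scheme.Hom.comp_apply, ← Scheme.Hom.comp_apply, ← Over.comp_left, ← Over.comp_left, h1, MonObj.one_comp]⟩
    have h2 : lift (a ≫ snd G U) (𝟙 _) ≫ h = a := by
      ext <;> simp [h]
    refine ⟨q.left ((lift (a ≫ snd G U) (𝟙 (Over.mk φ))).left t), ?_⟩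
    rw [← Scheme.Hom.comp_apply, ← Scheme.Hom.comp_apply, ← Over.comp_left, ← Over.comp_left, hq, ← Category.assoc, h2,
      Over.comp_left, Scheme.Hom.comp_apply]
    congr 1
    show ψ t = z
    exact Scheme.fromSpecResidueField_apply z _
  obtain ⟨fc, hfc⟩ : ∃ fc : G ⊗ U ⟶ K₀, fc ≫ c = f' :=
    ⟨Over.homMk (IsOpenImmersion.lift c.left f'.left hrange) (by
        rw [← Over.w c, IsOpenImmersion.lift_fac_assoc, Over.w f']),
      Over.OverMorphism.ext (IsOpenImmersion.lift_fac _ _ _)⟩
  haveI : IsClosedImmersion (c ≫ i).left := inferInstanceAs (IsClosedImmersion (c.left ≫ i.left))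
  obtain ⟨r, hr⟩ := hmin K₀ inferInstance (c ≫ i) inferInstance inferInstance ⟨fc, by rw [reassoc_of% hfc, hf']⟩
  haveI : IsSplitEpi c := ⟨⟨r, by rw [← cancel_mono i, Category.assoc, hr, Category.id_comp]⟩⟩
  haveI : IsIso c := isIso_of_mono_of_isSplitEpi c
  haveI : IsIso c.left := inferInstanceAs (IsIso ((Over.forget _).map c))
  haveI : ConnectedSpace K.left := c.left.homeomorph.connectedSpace_iff.1 hK₀
  obtain ⟨i₀, hi₀, hi₀m⟩ := exists_factor_open j i
  haveI := hi₀m
  haveI : IsClosedImmersion i₀.left := by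
    haveI : IsClosedImmersion (i₀.left ≫ j.left) := by rw [← Over.comp_left, hi₀]; infer_instance
    exact IsClosedImmersion.of_comp i₀.left j.left
  -- normality
  have hword : ∀ (l : List Bool) {T : Over (Spec (CommRingCat.of k))} (g : T ⟶ G) (a : T ⟶ src (G ⊗ U) l),
      ∃ b : T ⟶ K, b ≫ i = g * (a ≫ word f l) * g⁻¹ := by
    intro l
    induction l with
    | nil => intro T g a; exact ⟨1, by rw [MonObj.one_comp, comp_word_nil, _root_.mul_one, mul_inv_cancel]⟩
    | cons x l ih =>
      intro T g a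
      obtain ⟨b, hb⟩ := ih g (a ≫ snd (G ⊗ U) (src (G ⊗ U) l))
      obtain ⟨p, hp⟩ : ∃ p : T ⟶ K, p ≫ i = g * ((a ≫ fst (G ⊗ U) (src (G ⊗ U) l)) ≫ f) * g⁻¹ := by
        refine ⟨lift (g * (a ≫ fst (G ⊗ U) (src (G ⊗ U) l) ≫ fst G U))
          (a ≫ fst (G ⊗ U) (src (G ⊗ U) l) ≫ snd G U) ≫ f', ?_⟩
        rw [Category.assoc, hf']
        simp only [f, MonObj.comp_mul, GrpObj.comp_inv, lift_fst, lift_snd_assoc, Category.assoc]
        group
      rw [comp_word_cons]
      cases x with
      | true => exact ⟨p * b, by rw [MonObj.mul_comp, hp, hb]; simp only [letter]; group⟩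
      | false => exact ⟨p⁻¹ * b, by
          rw [MonObj.mul_comp, GrpObj.inv_comp, hp, hb]
          simp only [letter, GrpObj.comp_inv]
          group⟩
  have hKn : AlgGrp.IsNormalHom i := by
    obtain ⟨b, hb⟩ := hd.factor (T := G) (snd K G * (fst K G ≫ i) * (snd K G)⁻¹) i fun l => by
      obtain ⟨b, hb⟩ := hword l (snd (src (G ⊗ U) l) G) (fst (src (G ⊗ U) l) G)
      refine ⟨b, ?_⟩
      rw [hb, ← hw]
      simp [MonObj.comp_mul, GrpObj.comp_inv]
    intro T g n
    refine ⟨lift n g ≫ b, ?_⟩
    rw [Category.assoc, ← hb]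
    simp [MonObj.comp_mul, GrpObj.comp_inv]
  have hKn₀ : AlgGrp.IsNormalHom i₀ := isNormalHom_of_comp i₀ j (by rw [hi₀]; exact hKn)
  haveI : QuasiCompact K.hom := AutFinOrd.quasiCompact_hom K
  -- no subtori
  obtain ⟨m, hm⟩ := humax K i₀ inferInstance hKn₀ inferInstance inferInstance fun s => by
    haveI hKs : ConnectedSpace (Red.geomFibre s K).left := AutFinOrd.connectedSpace_bc (Red.geomPt s) K
    refine ⟨hKs, ?_⟩
    let φ := Red.geomPt s
    haveI : IsOpenImmersion ((Over.pullback φ).map j).left :=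
      MorphismProperty.overPullbackMap (P := @IsOpenImmersion) φ j inferInstance
    haveI : IsClosedImmersion ((Over.pullback φ).map i).left :=
      MorphismProperty.overPullbackMap (P := @IsClosedImmersion) φ i inferInstance
    haveI : IsClosedImmersion ((Over.pullback φ).map u).left :=
      MorphismProperty.overPullbackMap (P := @IsClosedImmersion) φ u inferInstance
    haveI : IsAffineHom G.hom := isAffineHom_of_isAffine G.hom
    haveI : IsAffineHom (Red.bc φ G).hom := inferInstanceAs (IsAffineHom (pullback.snd G.hom φ))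
    haveI : IsAffine (Red.bc φ G).left := isAffine_of_isAffineHom (Red.bc φ G).hom
    haveI : Smooth (Red.bc φ G).hom := inferInstanceAs (Smooth (pullback.snd G.hom φ))
    haveI : Smooth (Red.bc φ U).hom := inferInstanceAs (Smooth (pullback.snd U.hom φ))
    haveI : ConnectedSpace (Red.bc φ G₀).left := AutFinOrd.connectedSpace_bc φ G₀
    haveI : Smooth (Red.bc φ G₀).hom := inferInstanceAs (Smooth (pullback.snd G₀.hom φ))
    haveI : IsMonHom ((Over.pullback φ).map j) := inferInstance
    haveI : IsMonHom ((Over.pullback φ).map u) := inferInstance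
    obtain ⟨W, _, v, hv, hWc, hWt, hWn, hWcl, huniv⟩ := UniRad.exists_radical_of_open ((Over.pullback φ).map j)
    haveI := hv.1; haveI := hWcl
    obtain ⟨fu, hfu⟩ := huniv (Red.bc φ G₀) (𝟙 _) inferInstance inferInstance inferInstance
      (fun X g n => ⟨g * n * g⁻¹, by simp⟩) (Red.bc φ U) ((Over.pullback φ).map u) inferInstance inferInstance (hut s).1
      (SubGen.isNormalHom_pullback φ G₀ u hun) (hut s).2
    rw [Category.comp_id] at hfu
    let v' := v ≫ (Over.pullback φ).map j
    let Z : Over (Spec (CommRingCat.of k)) := Over.mk (v'.left ≫ (G ⊗ Over.mk φ).hom)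
    let z : Z ⟶ G ⊗ Over.mk φ := Over.homMk v'.left rfl
    haveI : IsClosedImmersion z.left := hWcl
    obtain ⟨b, hb⟩ := hd.factor (T := Over.mk φ) (i ▷ Over.mk φ) z fun l => by
      haveI : LocallyOfFiniteType (G ⊗ U).hom := inferInstance
      haveI : LocallyOfFiniteType (src (G ⊗ U) l).hom := SubGen.lft_src _ l
      haveI : IsReduced (Red.bc φ (src (G ⊗ U) l)).left :=
        GeometricallyReduced.geometrically_isReduced (f := (src (G ⊗ U) l).hom) φ _ _ (IsPullback.of_hasPullback _ φ)
      haveI : LocallyOfFiniteType (Red.bc φ (src (G ⊗ U) l)).hom :=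
        inferInstanceAs (LocallyOfFiniteType (pullback.snd _ φ))
      obtain ⟨g, hg⟩ := Chev.BorelFixed.exists_lift_rp ((Over.pullback φ).map (word f l)) v' fun q => by
        obtain ⟨a, ha⟩ : ∃ a : Over.mk φ ⟶ src (G ⊗ U) l,
            q ≫ (Over.pullback φ).map (word f l) = ratEquiv φ G (a ≫ word f l) := by
          have hq : q.left ≫ pullback.snd (src (G ⊗ U) l).hom φ = 𝟙 _ := Over.w q
          refine ⟨Over.homMk (q.left ≫ pullback.fst (src (G ⊗ U) l).hom φ) (by
            show (q.left ≫ pullback.fst _ _) ≫ (src (G ⊗ U) l).hom = φ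
            rw [Category.assoc, pullback.condition, reassoc_of% hq]), ?_⟩
          apply Over.OverMorphism.ext
          rw [SubGen.ratEquiv_left]
          apply pullback.hom_ext
          · simp
          · simp [hq]
        obtain ⟨r, hr⟩ := exists_bound φ j u hun (hut s).1 (hut s).2 l W v hv hWn ⟨fu, hfu⟩ a
        rw [ha, ← hr]
        exact ⟨SubGen.rpt r, SubGen.map_rpt _ _⟩
      have hl : g.left ≫ z.left = (w l ▷ Over.mk φ ≫ i ▷ Over.mk φ).left := by
        show g.left ≫ v'.left = _
        rw [← Over.comp_left, hg, ← comp_whiskerRight, hw]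
        apply pullback.hom_ext
        · exact Eq.trans (by simp) (whisker_left (T := Over.mk φ) (word f l)).1.symm
        · exact Eq.trans (by simp) (whisker_left (T := Over.mk φ) (word f l)).2.symm
      exact ⟨Over.homMk g.left (by
        show g.left ≫ z.left ≫ (G ⊗ Over.mk φ).hom = _
        rw [← Category.assoc, hl, Over.w]), Over.OverMorphism.ext hl.symm⟩
    have hbl : b.left ≫ v'.left = ((Over.pullback φ).map i).left := by
      rw [show b.left ≫ v'.left = (b ≫ z).left from rfl, ← hb]
      apply pullback.hom_ext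
      · exact (whisker_left (T := Over.mk φ) i).1.trans (by simp)
      · exact (whisker_left (T := Over.mk φ) i).2.trans (by simp)
    let b' : Red.geomFibre s K ⟶ W := Over.homMk b.left (by
      rw [← Over.w v', ← Category.assoc, hbl, Over.w])
    have hb' : b' ≫ v' = (Over.pullback φ).map i := Over.OverMorphism.ext hbl
    haveI : Mono v' := GrpField.SchImg.mono_of_isClosedImmersion v'
    haveI : IsMonHom b' := MTSplit.isMonHom_of_comp_mono b' v' _ hb'
    haveI : Mono ((Over.pullback φ).map i) := GrpField.SchImg.mono_of_isClosedImmersion _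
    haveI : Mono (b' ≫ v') := by rw [hb']; infer_instance
    haveI : Mono b' := mono_of_mono b' v'
    intro T _ t _ _ hT
    exact hWt T (t ≫ b') hT
  refine ⟨inferInstance, inferInstance, ?_, hus, huq, hut, ?_⟩
  · intro T g n
    refine ⟨lift g n ≫ f' ≫ m, ?_⟩
    have h1 : m ≫ u ≫ j = i := by rw [reassoc_of% hm, hi₀]
    rw [Category.assoc, Category.assoc, h1, hf']
    simp [f, MonObj.comp_mul, GrpObj.comp_inv]
  · intro U' _ u' _ hc hn hs hq ht
    haveI : ConnectedSpace U'.left := by
      let s : Spec (CommRingCat.of k) := IsLocalRing.closedPoint k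
      haveI : ConnectedSpace ↥(pullback U'.hom (Red.geomPt s)) := (ht s).1
      haveI : Surjective (Red.geomPt s) := inferInstance
      exact (pullback.fst U'.hom (Red.geomPt s)).surjective.connectedSpace
        (pullback.fst U'.hom (Red.geomPt s)).continuous
    obtain ⟨u₀, hu₀, hu₀m⟩ := exists_factor_open j u'
    haveI := hu₀m; haveI := hc
    haveI : IsClosedImmersion (u₀.left ≫ j.left) := by rw [← Over.comp_left, hu₀]; exact hc
    obtain ⟨g, hg⟩ := humax U' u₀ (IsClosedImmersion.of_comp u₀.left j.left)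
      (isNormalHom_of_comp u₀ j (by rw [hu₀]; exact hn)) hs hq ht
    exact ⟨g, by rw [reassoc_of% hg, hu₀]⟩

end Main

end Groth.Agent.UniRadUp
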